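import Mathlib
import Cfsg.Agent.H467.OddNorm
import Cfsg.Agent.H711.Crit

/-!
# Involutions normalising Sylow subgroups: criteria inside the group (helper457)

`EvIn p S` (helper467): some involution of `S` normalises some Sylow `p`-subgroup of `S`.

It goes up to overgroups of `p'`-index (`of_injective`) and to extensions by arbitrary normal subgroups
(`of_surjective`); it follows from real elements of order `p` (`of_real'`, `of_comm_real`, `of_real_card`).
-/

set_option autoImplicit false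

open Subgroup

namespace Cfsg.Agent.H457.Odd

open Cfsg.Agent.H467.OddNorm Cfsg.Agent.H711.Crit

variable {p : ℕ} {S : Type*} [Group S]

theorem orderOf_half {n : S} {k : ℕ} (hk : orderOf n = 2 * k) (hpos : 0 < k) : orderOf (n ^ k) = 2 := by
  have h := orderOf_pow_of_dvd hpos.ne' (Dvd.intro 2 (by omega : k * 2 = orderOf n))
  rw [h, hk]
  exact Nat.mul_div_cancel _ hpos

/-- an element of even order normalising a Sylow subgroup -/
theorem evIn_of_even [Finite S] (Q : Sylow p S) {h : S} (he : Even (orderOf h)) (hn : ∀ x ∈ Q, h * x * h⁻¹ ∈ Q) :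
    EvIn p S := by
  obtain ⟨k, hk⟩ := he
  have hpos := orderOf_pos h
  refine ⟨Q, h ^ k, orderOf_half (by omega) (by omega), ?_⟩
  exact pow_mem (mem_normalizer_of_forall hn) k

/-- for every Sylow subgroup -/
theorem evIn_all [Finite S] [Fact p.Prime] (h : EvIn p S) (Q : Sylow p S) :
    ∃ t : S, orderOf t = 2 ∧ ∀ x ∈ Q, t * x * t⁻¹ ∈ Q := by
  obtain ⟨R, t, ht, hn⟩ := h
  obtain ⟨g, rfl⟩ := MulAction.exists_smul_eq S R Q
  have key : ∀ x : S, x ∈ g • R ↔ g⁻¹ * x * g ∈ R := by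
    intro x
    rw [← SetLike.mem_coe, Sylow.coe_smul, Set.mem_smul_set_iff_inv_smul_mem]
    have : (MulAut.conj g)⁻¹ • x = g⁻¹ * x * g := by
      rw [← map_inv, MulAut.smul_def, MulAut.conj_apply, inv_inv]
    rw [this, SetLike.mem_coe]
  refine ⟨g * t * g⁻¹, ?_, fun x hx => ?_⟩
  · have : orderOf (g * t * g⁻¹) = orderOf t := by
      rw [← MulAut.conj_apply, ← MulEquiv.coe_toMonoidHom, orderOf_injective (MulAut.conj g).toMonoidHom (MulAut.conj g).injective]
    rwa [this]
  · rw [key] at hx ⊢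
    have := (mem_normalizer_iff.1 hn _).1 hx
    have e : g⁻¹ * (g * t * g⁻¹ * x * (g * t * g⁻¹)⁻¹) * g = t * (g⁻¹ * x * g) * t⁻¹ := by group
    rw [e]
    exact this

/-- up to an overgroup of `p'`-index -/
theorem evIn_of_injective [Finite S] [Fact p.Prime] {H : Type*} [Group H] (f : H →* S) (hf : Function.Injective f)
    (hi : ¬ p ∣ f.range.index) (h : EvIn p H) : EvIn p S := by
  have : Finite H := Finite.of_injective f hf
  obtain ⟨R, t, ht, hn⟩ := h
  have hcard : Nat.card ((R : Subgroup H).map f) = p ^ (Nat.card S).factorization p := by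
    rw [Nat.card_congr ((R : Subgroup H).equivMapOfInjective f hf).toEquiv.symm, R.card_eq_multiplicity,
      ← f.range.card_mul_index, Nat.card_congr (MonoidHom.ofInjective hf).toEquiv.symm,
      Nat.factorization_mul Nat.card_pos.ne' (Subgroup.index_ne_zero_of_finite), Finsupp.add_apply,
      Nat.factorization_eq_zero_of_not_dvd hi, add_zero]
  refine evIn_of_even (Sylow.ofCard _ hcard) (h := f t) ?_ ?_
  · rw [orderOf_injective f hf, ht]
    exact even_two
  · rintro _ ⟨x, hx, rfl⟩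
    exact ⟨t * x * t⁻¹, (mem_normalizer_iff.1 hn _).1 hx, by simp⟩

theorem evIn_of_subgroup [Finite S] [Fact p.Prime] (H : Subgroup S) (hi : ¬ p ∣ H.index) (h : EvIn p H) : EvIn p S :=
  evIn_of_injective H.subtype H.subtype_injective (by rwa [H.range_subtype]) h

/-- by cardinalities -/
theorem evIn_of_injective_card [Finite S] [hp : Fact p.Prime] {H : Type*} [Group H] (f : H →* S)
    (hf : Function.Injective f) {n : ℕ} (hn : ¬ p ^ (n + 1) ∣ Nat.card S) (hH : p ^ n ∣ Nat.card H) (h : EvIn p H) :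
    EvIn p S := by
  refine evIn_of_injective f hf (fun h0 => hn ?_) h
  rw [← f.range.card_mul_index, Nat.card_congr (MonoidHom.ofInjective hf).toEquiv.symm, pow_succ]
  exact Nat.mul_dvd_mul hH h0

/-- **up to a group with the given quotient** (arbitrary kernel) -/
theorem evIn_of_surjective [Finite S] [hp : Fact p.Prime] (hp2 : p ≠ 2) {K : Type*} [Group K] (f : S →* K)
    (hf : Function.Surjective f) (h : EvIn p K) : EvIn p S := by
  have : Finite K := Finite.of_surjective f hf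
  obtain ⟨R, h, h1, hn⟩ := h
  have h2 : ∀ x ∈ R, h * x * h⁻¹ ∈ R := fun x hx => (mem_normalizer_iff.1 hn _).1 hx
  obtain ⟨x, rfl⟩ := hf h
  -- the preimage `M` of `R` and a Sylow subgroup of `M`
  let M : Subgroup S := (R : Subgroup K).comap f
  obtain ⟨Q₀⟩ : Nonempty (Sylow p M) := inferInstance
  let Q₁ : Subgroup S := (Q₀ : Subgroup M).map M.subtype
  have hQ₁M : Q₁ ≤ M := by
    rintro _ ⟨y, -, rfl⟩
    exact y.2
  have hidx : ¬ p ∣ M.index := by
    rw [index_comap_of_surjective _ hf]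
    exact R.not_dvd_index
  have hcard : Nat.card Q₁ = p ^ (Nat.card S).factorization p := by
    rw [Nat.card_congr ((Q₀ : Subgroup M).equivMapOfInjective _ M.subtype_injective).toEquiv.symm,
      Q₀.card_eq_multiplicity, ← M.card_mul_index,
      Nat.factorization_mul Nat.card_pos.ne' (Subgroup.index_ne_zero_of_finite), Finsupp.add_apply,
      Nat.factorization_eq_zero_of_not_dvd hidx, add_zero]
  let Q : Sylow p S := Sylow.ofCard Q₁ hcard
  -- `x` normalises `M`
  have hxM : ∀ y ∈ M, x * y * x⁻¹ ∈ M := by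
    intro y hy
    show f (x * y * x⁻¹) ∈ R
    rw [map_mul, map_mul, map_inv]
    exact h2 _ hy
  -- Frattini
  have hQx : ∃ m ∈ M, ∀ y ∈ Q, (m * x) * y * (m * x)⁻¹ ∈ Q := by
    let Q₂ : Subgroup S := (Q : Subgroup S).map (MulAut.conj x).toMonoidHom
    have hQ₂M : Q₂ ≤ M := by
      rintro _ ⟨y, hy, rfl⟩
      exact hxM y (hQ₁M hy)
    have hc2 : Nat.card (Q₂.subgroupOf M) = p ^ (Nat.card M).factorization p := by
      rw [Nat.card_congr (subgroupOfEquivOfLe hQ₂M).toEquiv,
        Nat.card_congr ((Q : Subgroup S).equivMapOfInjective _ (MulAut.conj x).injective).toEquiv.symm,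
        ← Q₀.card_eq_multiplicity]
      exact (Nat.card_congr ((Q₀ : Subgroup M).equivMapOfInjective _ M.subtype_injective).toEquiv).symm
    obtain ⟨m, hm⟩ := MulAction.exists_smul_eq M (Sylow.ofCard _ hc2) Q₀
    refine ⟨m, m.2, fun y hy => ?_⟩
    have h9 : (⟨x * y * x⁻¹, hxM y (hQ₁M hy)⟩ : M) ∈ Sylow.ofCard _ hc2 := by
      show _ ∈ Q₂.subgroupOf M
      rw [mem_subgroupOf]
      exact ⟨y, hy, rfl⟩
    have h10 : m * ⟨x * y * x⁻¹, hxM y (hQ₁M hy)⟩ * m⁻¹ ∈ Q₀ := by
      rw [← hm]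
      show _ ∈ ((m • Sylow.ofCard _ hc2 : Sylow p M) : Set M)
      rw [Sylow.coe_smul]
      exact ⟨_, h9, rfl⟩
    refine ⟨_, h10, ?_⟩
    show (m : S) * (x * y * x⁻¹) * (m : S)⁻¹ = _
    group
  obtain ⟨m, hm, hmx⟩ := hQx
  refine evIn_of_even Q ?_ hmx
  -- `f (m * x)` has even order: it is an element of `R x`, `x` normalises `R`
  by_contra ho
  rw [Nat.not_even_iff_odd] at ho
  obtain ⟨k, hk⟩ := ho
  have hm' : f m ∈ R := hm
  -- modulo `R`, in the normalizer of `R`
  have key : ∀ j : ℕ, ∃ r ∈ R, (f m * f x) ^ (2 * j + 1) = r * f x := by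
    intro j
    induction j with
    | zero => exact ⟨f m, hm', by rw [mul_zero, zero_add, pow_one]⟩
    | succ j ih =>
      obtain ⟨r, hr, hrj⟩ := ih
      refine ⟨r * (f x * f m * (f x)⁻¹) * f m, mul_mem (mul_mem hr (h2 _ hm')) hm', ?_⟩
      have hxx : f x * f x = 1 := by rw [← pow_two, ← h1, pow_orderOf_eq_one]
      have hxi : (f x)⁻¹ = f x := inv_eq_of_mul_eq_one_left hxx
      rw [show 2 * (j + 1) + 1 = (2 * j + 1) + 1 + 1 by ring, pow_succ, pow_succ, hrj, hxi]
      have e : r * f x * (f m * f x) * (f m * f x) = r * (f x * f m * f x) * f m * f x := by group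
      rw [e]
  obtain ⟨r, hr, hrk⟩ := key k
  have h3 : (f m * f x) ^ (2 * k + 1) = 1 := by
    rw [← map_mul, ← hk, ← map_pow, pow_orderOf_eq_one, map_one]
  rw [h3] at hrk
  have h4 : f x = r⁻¹ := eq_inv_of_mul_eq_one_right hrk.symm
  have h5 : f x ∈ R := by rw [h4]; exact inv_mem hr
  obtain ⟨j, hj⟩ := R.isPGroup' ⟨f x, h5⟩
  have h6 : (f x) ^ (p ^ j) = 1 := congrArg Subtype.val hj
  have h7 := orderOf_dvd_of_pow_eq_one h6
  rw [h1] at h7
  exact hp2 ((Nat.prime_dvd_prime_iff_eq Nat.prime_two hp.out).1 (Nat.prime_two.dvd_of_dvd_pow h7)).symm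

/-- **Burnside**: a real central element of a Sylow subgroup -/
theorem evIn_of_real [Finite S] [Fact p.Prime] (hp2 : p ≠ 2) (Q : Sylow p S) {z : S} (hz : z ∈ Q) (hz1 : z ≠ 1)
    (hzc : ∀ x ∈ Q, x * z = z * x) (hc : IsConj z z⁻¹) : EvIn p S := by
  obtain ⟨g, hg⟩ := isConj_iff.1 hc
  obtain ⟨n, hn, hnz⟩ := Sylow.conj_eq_normalizer_conj_of_mem_centralizer Q z g⁻¹
    (by rw [Subgroup.mem_centralizer_iff]; exact hzc)
    (by
      rw [Subgroup.mem_centralizer_iff, inv_inv, hg]
      intro x hx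
      have := hzc x hx
      rw [eq_inv_mul_iff_mul_eq, ← mul_assoc, ← this, mul_inv_cancel_right])
  rw [inv_inv, hg] at hnz
  have hn' : ∀ x ∈ Q, n⁻¹ * x * n⁻¹⁻¹ ∈ Q := fun x hx => ((Subgroup.mem_normalizer_iff.1 (inv_mem hn)) x).1 hx
  have hne : z⁻¹ ≠ z := by
    refine inv_ne_self Fact.out hp2 hz1 ?_
    obtain ⟨k, hk⟩ := Q.isPGroup' ⟨z, hz⟩
    exact ⟨k, congrArg Subtype.val hk⟩
  refine evIn_of_even Q (even_of_inverts (z := z) (n := n⁻¹) hne ?_) hn'
  rw [inv_inv]
  exact hnz.symm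

/-- all elements of order `p` commuting with one given element of order `p` are real -/
theorem evIn_of_comm_real [Finite S] [Fact p.Prime] (hp2 : p ≠ 2) {x : S} (hx : orderOf x = p)
    (h : ∀ z : S, orderOf z = p → z * x = x * z → IsConj z z⁻¹) : EvIn p S := by
  have hp : IsPGroup p (zpowers x) := IsPGroup.of_card (n := 1) (by rw [Nat.card_zpowers, hx, pow_one])
  obtain ⟨P, hP⟩ := hp.exists_le_sylow
  have hxP : x ∈ P := hP (Subgroup.mem_zpowers x)
  obtain ⟨w, hwP, hw, hcen⟩ := exists_central P (hx ▸ orderOf_dvd_natCard x)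
  have hw1 : w ≠ 1 := by
    intro h0
    rw [h0, orderOf_one] at hw
    exact (Nat.Prime.one_lt (Fact.out : p.Prime)).ne hw
  exact evIn_of_real hp2 P hwP hw1 hcen (h w hw (hcen x hxP).symm)

/-- all elements of order `p` are real -/
theorem evIn_of_all_real [Finite S] [Fact p.Prime] (hp2 : p ≠ 2) (hd : p ∣ Nat.card S)
    (h : ∀ z : S, orderOf z = p → IsConj z z⁻¹) : EvIn p S := by
  obtain ⟨x, hx⟩ := exists_prime_orderOf_dvd_card' p hd
  exact evIn_of_comm_real hp2 hx fun z hz _ => h z hz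

/-- a real element of order `p` whose centralizer contains a Sylow `p`-subgroup -/
theorem evIn_of_real_card [Finite S] [Fact p.Prime] (hp2 : p ≠ 2) {z : S} (hz : orderOf z = p) (hc : IsConj z z⁻¹)
    {n m : ℕ} (hS : Nat.card S = p ^ n * m) (hm : ¬ p ∣ m) (hC : p ^ n ∣ Nat.card ↥(centralizer ({z} : Set S))) :
    EvIn p S := by
  have hp : p.Prime := Fact.out
  obtain ⟨R, hR⟩ := Sylow.exists_subgroup_card_pow_prime p hC
  let P : Subgroup S := R.map (centralizer ({z} : Set S)).subtype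
  have hP : Nat.card P = p ^ (Nat.card S).factorization p := by
    have hm0 : m ≠ 0 := fun h0 => hm (by rw [h0]; exact dvd_zero p)
    rw [Nat.card_congr (R.equivMapOfInjective _ (subtype_injective _)).toEquiv.symm, hR, hS,
      Nat.factorization_mul (pow_pos hp.pos n).ne' hm0, Finsupp.add_apply, Nat.factorization_eq_zero_of_not_dvd hm,
      Nat.Prime.factorization_pow hp, Finsupp.single_eq_same, add_zero]
  have hcen : ∀ x ∈ Sylow.ofCard P hP, x * z = z * x := by
    rintro _ ⟨⟨x, hx⟩, -, rfl⟩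
    exact mem_centralizer_singleton_iff.1 hx
  have hzP : z ∈ Sylow.ofCard P hP := by
    refine mem_of_normalizes _ (fun x hx => ?_) ⟨1, by rw [pow_one, ← hz, pow_orderOf_eq_one]⟩
    rwa [← hcen x hx, mul_inv_cancel_right]
  refine evIn_of_real hp2 _ hzP (fun h0 => ?_) hcen hc
  rw [h0, orderOf_one] at hz
  exact hp.one_lt.ne hz

theorem evIn_s3 : EvIn 3 (Equiv.Perm (Fin 3)) := by
  have : Fact (Nat.Prime 3) := ⟨Nat.prime_three⟩
  have hc : Nat.card (Equiv.Perm (Fin 3)) = 6 := by rw [Nat.card_eq_fintype_card]; decide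
  refine evIn_of_comm_real (by norm_num) (x := finRotate 3) ?_ fun z _ _ => ?_
  · rw [orderOf_eq_prime_iff]; decide
  · have : ∀ z : Equiv.Perm (Fin 3), ∃ c : Equiv.Perm (Fin 3), c * z * c⁻¹ = z⁻¹ := by decide
    exact isConj_iff.2 (this z)

/-- `Row` from `EvIn` of a copy, when `Out` has order prime to `p` -/
theorem row_of_evIn [Finite S] [hp : Fact p.Prime] (hZ : center S = ⊥)
    (hOut : ¬ p ∣ Nat.card (MulAut S ⧸ (MulAut.conj : S →* MulAut S).range)) (h : EvIn p S) : Ev p S := by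
  have : Finite (MulAut S) := Cfsg.Agent.H712.Gmn.finite_mulAut
  refine Ev.of_inner ?_ h hZ
  intro a ha
  obtain ⟨k, hk⟩ := ha
  have h1 : (QuotientGroup.mk a : MulAut S ⧸ (MulAut.conj : S →* MulAut S).range) = 1 := by
    have h2 : (QuotientGroup.mk a : MulAut S ⧸ (MulAut.conj : S →* MulAut S).range) ^ (p ^ k) = 1 := by
      rw [← QuotientGroup.mk_pow, hk]; rfl
    have h3 := orderOf_dvd_of_pow_eq_one h2
    have h4 := orderOf_dvd_natCard (QuotientGroup.mk a : MulAut S ⧸ (MulAut.conj : S →* MulAut S).range)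
    have h5 : Nat.Coprime (Nat.card (MulAut S ⧸ (MulAut.conj : S →* MulAut S).range)) (p ^ k) :=
      Nat.Coprime.pow_right k ((Nat.Prime.coprime_iff_not_dvd Fact.out).2 hOut).symm
    exact orderOf_eq_one_iff.1 (Nat.dvd_one.1 (h5 ▸ Nat.dvd_gcd h4 h3))
  obtain ⟨s, hs⟩ := (QuotientGroup.eq_one_iff a).1 h1
  exact ⟨s, hs.symm⟩

end Cfsg.Agent.H457.Odd
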