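import Mathlib
import Cfsg.Prelude.Def_Classification2
import Cfsg.Agent.H457.Odd.Crit
import Cfsg.Agent.H569.HNFiveQ
import Cfsg.Agent.S1701

/-!
# S3855, `p = 5`: the Harada-Norton group (helper457)

An involution normalises a Sylow `5`-subgroup (helper569).
-/

set_option autoImplicit false

open Subgroup

namespace Cfsg.Agent.H457.Odd.RowHN

open Cfsg Cfsg.Agent.H467.OddNorm Cfsg.Agent.H457.Odd

theorem evIn_hn : EvIn 5 Cfsg.Spor.HN := by
  obtain ⟨a, b, hab⟩ := H569.HNFive.exists_pair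
  obtain ⟨v, hv, hva, hvb⟩ := hab.exists_v
  obtain ⟨S, hW, -⟩ := hab.exists_sylow hv hva hvb
  exact ⟨S, _, Cfsg.Agent.CpAutHNFive.TFive.order_W0, hW⟩

theorem hn_five {K : Type*} [Group K] (h : Spor.IsoHN K) : EvIn 5 K := by
  have hp : Fact (Nat.Prime 5) := ⟨Nat.prime_five⟩
  have hfin : Finite Cfsg.Spor.HN := Nat.finite_of_card_ne_zero (by rw [S1701.result.2]; norm_num)
  obtain ⟨e⟩ := h
  exact evIn_hn.congr e.symm

end Cfsg.Agent.H457.Odd.RowHN
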