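import Mathlib
import Cfsg.Prelude.Def_Classification2
import Cfsg.Agent.H457.Odd.RowHN
import Cfsg.Agent.H569.BFive

/-!
# S3855, `p = 5`: the Baby Monster (helper457)

`HN ≤ B` has index prime to `5`.
-/

set_option autoImplicit false

open Subgroup

namespace Cfsg.Agent.H457.Odd.RowB

open Cfsg Cfsg.Agent.H467.OddNorm Cfsg.Agent.H457.Odd

theorem evIn_b : EvIn 5 Cfsg.Spor.BabyMonster := by
  have hp : Fact (Nat.Prime 5) := ⟨Nat.prime_five⟩
  obtain ⟨f, hf⟩ := H569.BFive.exists_hom
  have hB : Nat.card Cfsg.Spor.BabyMonster = 4154781481226426191177580544000000 := BM.KHAll.card_B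
  have hfin : Finite Cfsg.Spor.BabyMonster := Nat.finite_of_card_ne_zero (by rw [hB]; norm_num)
  refine evIn_of_injective_card f hf (n := 6) (by rw [hB]; norm_num) (by rw [S1701.result.2]; norm_num) RowHN.evIn_hn

theorem b_five {K : Type*} [Group K] (h : Spor.IsoB K) : EvIn 5 K := by
  have hp : Fact (Nat.Prime 5) := ⟨Nat.prime_five⟩
  have hB : Nat.card Cfsg.Spor.BabyMonster = 4154781481226426191177580544000000 := BM.KHAll.card_B
  have hfin : Finite Cfsg.Spor.BabyMonster := Nat.finite_of_card_ne_zero (by rw [hB]; norm_num)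
  obtain ⟨e⟩ := h
  exact evIn_b.congr e.symm

end Cfsg.Agent.H457.Odd.RowB
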