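import Mathlib
import Cfsg.Prelude.Def_Classification2
import Cfsg.Agent.H457.Odd.Index
import Cfsg.Agent.H791.OnTwo
import Cfsg.Agent.S1055
import Cfsg.Agent.S1059
import Cfsg.Agent.S1709
import Cfsg.Agent.S1710

/-!
# S3855, `p = 5`: the Lyons group (helper457)

`G₂(5) ≤ Ly` has index prime to `5`.
-/

set_option autoImplicit false

open Subgroup

namespace Cfsg.Agent.H457.Odd.RowLy

open Cfsg Cfsg.Agent.H467.OddNorm Cfsg.Agent.H457.Odd

theorem evIn_gtwo (K : Type) [Field K] [Fintype K] (hK : Fintype.card K = 5) : EvIn 5 ↥(Lie.chevG2.group K) := by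
  have hp : Fact (Nat.Prime 5) := ⟨Nat.prime_five⟩
  have hc : CharP K 5 := by
    obtain ⟨q, hq⟩ := CharP.exists K
    obtain ⟨n, hqp, hn⟩ := FiniteField.card K q
    have h1 : q ∣ 5 := by
      rw [← hK, hn]
      exact dvd_pow_self q n.pos.ne'
    have h2 : q = 5 := (Nat.prime_dvd_prime_iff_eq hqp Nat.prime_five).1 h1
    rw [← h2]
    exact hq
  have hs : IsSimpleGroup ↥(Lie.chevG2.group K) := (S1055.result (F := K) ⟨-1, neg_ne_zero.2 one_ne_zero, fun h => by
    have h2 : ((2 : ℕ) : K) = 0 := by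
      have h3 : (1 : K) + 1 = 0 := by
        nth_rewrite 1 [← h]
        exact neg_add_cancel 1
      rw [Nat.cast_two, ← h3]
      norm_num
    rw [CharP.cast_eq_zero_iff K 5] at h2
    norm_num at h2⟩).1
  have hf : Finite ↥(Lie.chevG2.group K) := by
    refine Nat.finite_of_card_ne_zero ?_
    rw [Cfsg.Agent.S1059.result hK]
    norm_num
  have hZ : center ↥(Lie.chevG2.group K) = ⊥ := by
    refine center_eq_bot_of_simple fun hab => ?_
    let _ : CommGroup ↥(Lie.chevG2.group K) := { (inferInstance : Group ↥(Lie.chevG2.group K)) with mul_comm := hab }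
    have h3 : (Nat.card ↥(Lie.chevG2.group K)).Prime := IsSimpleGroup.prime_card
    rw [Cfsg.Agent.S1059.result hK] at h3
    norm_num at h3
  exact evIn_of_ev hZ ((H791.OnTwo.evA_G2 (by norm_num) hZ).ev hZ)

theorem evIn_ly : EvIn 5 Spor.Ly := by
  have hp : Fact (Nat.Prime 5) := ⟨Nat.prime_five⟩
  obtain ⟨K, _, _, hK, ⟨e⟩⟩ := S1710.result
  have hf : Finite (Lie.chevG2.group K) := by
    refine Nat.finite_of_card_ne_zero ?_
    rw [Cfsg.Agent.S1059.result hK]
    norm_num
  have hf2 := Finite.of_equiv _ e.toEquiv.symm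
  have hi := S1709.result
  have hfl : Finite Spor.Ly := by
    refine Nat.finite_of_card_ne_zero ?_
    rw [← Subgroup.card_mul_index, hi]
    exact Nat.mul_ne_zero Nat.card_pos.ne' (by norm_num)
  refine evIn_of_subgroup _ ?_ ((evIn_gtwo K hK).congr e.symm)
  rw [hi]
  norm_num

theorem ly_five {X : Type*} [Group X] (h : Spor.IsoLy X) : EvIn 5 X := by
  have hp : Fact (Nat.Prime 5) := ⟨Nat.prime_five⟩
  obtain ⟨e⟩ := h
  obtain ⟨K, _, _, hK, ⟨e'⟩⟩ := S1710.result
  have hf : Finite (Lie.chevG2.group K) := by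
    refine Nat.finite_of_card_ne_zero ?_
    rw [Cfsg.Agent.S1059.result hK]
    norm_num
  have hf2 := Finite.of_equiv _ e'.toEquiv.symm
  have hfl : Finite Spor.Ly := by
    refine Nat.finite_of_card_ne_zero ?_
    rw [← Subgroup.card_mul_index, S1709.result]
    exact Nat.mul_ne_zero Nat.card_pos.ne' (by norm_num)
  exact evIn_ly.congr e.symm

end Cfsg.Agent.H457.Odd.RowLy
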