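import Mathlib
import Cfsg.Prelude.Def_Classification2
import Cfsg.Agent.H546.MFiveFull
import Cfsg.Agent.H457.Odd.Index

/-!
# S3855, `p = 5`: the Monster (helper457)

The Sylow 5-subgroup `S T₀` of helper546 is normalised by the involution `z`: `z` normalises `S` (normal in `C(x₀)`) and
centralises `T₀`.
-/

set_option autoImplicit false
set_option maxRecDepth 100000

namespace Cfsg.Agent.H457.Odd.RowMFive

open Subgroup Cfsg Cfsg.Agent.H749 Cfsg.Agent.H792.SpTool Cfsg.Agent.H546 Cfsg.Agent.H546.MFiveFull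
open Cfsg.Agent.MonsterU Cfsg.Agent.MFive Cfsg.Agent.BpTab Cfsg.Agent.BpSpor.M5
open Cfsg.Agent.LThreeMB (fr XX zD self toXX KChart.Cent KChart.pi KChart.chart)
open Cfsg.Agent.MonsterU.Ch
open Cfsg.Agent.MonsterU.Lam2 (L2)
open Cfsg.Spor (Co1)
open Cfsg.Agent.H467.OddNorm (EvIn)

universe u v

section chart

variable {G : Type u} [Group G] {Q : Subgroup G} {z : G} {eta : G → L2}
  {pi : Subgroup.centralizer ({z} : Set G) →* Co1}

/-- an involution normalises a Sylow 5-subgroup, for a group with a chart (after helper546) -/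
theorem evIn_chart [Finite G] (h : Chart Q z eta pi) (htr : TrNe 5 z pi) (I : CoFive)
    (hJ : ∀ s : Co1, orderOf s = 5 → fr s = 1 → Spor.IsoJ2 (XX s)) (h8 : HNEight z pi)
    (hpr : HasPair 5 z pi) (hcl : WClassOf 5 1)
    (h4 : ∃ c : Co1, orderOf c = 5 ∧ fr c = 2 ^ 4 ∧ 5 ^ 4 ∣ Nat.card ↥(centralizer ({c} : Set Co1)))
    (hk : ∃ (x₀ : Subgroup.centralizer ({z} : Set G)) (k : G), orderOf x₀ = 5 ∧ fr (pi x₀) = 1 ∧
      k * (x₀ : G) = x₀ * k ∧ k * k = z)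
    (hcard : ¬ 5 ^ 10 ∣ Nat.card G) : EvIn 5 G := by
  have hp : Nat.Prime 5 := Nat.prime_five
  have hpf : Fact (Nat.Prime 5) := ⟨Nat.prime_five⟩
  have ho : Odd 5 := by decide
  have hpr' := hpr
  obtain ⟨x, u, g, hx, hfr, huz, hux, hne, hg⟩ := hpr
  obtain ⟨x₁, k₁, hx₁, hfr₁, hkx₁, hkk₁⟩ := hk
  obtain ⟨k, hkx, hkk⟩ := exists_sq h hp ho hcl hx₁ hfr₁ hkx₁ hkk₁ hx hfr
  have hJx := hJ _ (orderOf_pi h hp ho hx) hfr
  obtain ⟨f1, f2, f3, f4⟩ := j2_facts hJx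
  have hD4 := dvd_zero h htr I h8 hpr' hcl h4 hx hfr
  obtain ⟨N, hN⟩ := exists_rad h (by norm_num) hx hfr (fun d hd hc => isolated h htr hx hfr d hd hc) f1 f2
  have hkz : k * z = z * k := by rw [← hkk, mul_assoc]
  have hz2 : z * z = 1 := h.large.z_sq
  have hz1 : z ≠ 1 := h.large.z_ne
  have hxz : (x : G) * z = z * x := mem_centralizer_singleton_iff.1 x.2
  obtain ⟨S, T, hSn, hST, hTp, hT9, hfac⟩ := RadSeven.exists_nine (hA := f1) f3 hN
    (k := ⟨⟨k, mem_centralizer_singleton_iff.2 hkx⟩, mem_centralizer_singleton_iff.2 (Subtype.ext hkz)⟩)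
    (Subtype.ext hkk) hD4 f4 (by rw [j2_card hJx]; norm_num) (by rw [j2_card hJx]; norm_num)
  -- the Sylow subgroup
  set ι := (centralizer ({(x : G)} : Set G)).subtype with hι
  have hTp' : IsPGroup 5 ↥(T.map ι) := hTp.map ι
  have hT9' : 5 ^ 9 ∣ Nat.card ↥(T.map ι) := by
    rw [card_map_of_injective (Subgroup.subtype_injective _)]
    exact hT9
  have hidx : ¬ 5 ∣ (T.map ι).index := by
    intro h5
    apply hcard
    rw [← (T.map ι).card_mul_index, pow_succ]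
    exact mul_dvd_mul hT9' h5
  have hnorm : ∀ v : G, v * (x : G) = x * v → ∀ r ∈ S.map ι, v * r * v⁻¹ ∈ S.map ι := by
    rintro v hv _ ⟨r, hr, rfl⟩
    exact ⟨_, hSn.conj_mem r hr ⟨v, mem_centralizer_singleton_iff.2 hv⟩, rfl⟩
  have hzo : orderOf z = 2 := orderOf_eq_prime (by rw [pow_two, hz2]) hz1
  refine Cfsg.Agent.H457.Odd.evIn_of_fac hTp' hidx (R := S.map ι) (map_mono hST) (z := z)
    (by rw [hzo]; exact even_two) (hnorm z hxz.symm) ?_
  rintro _ ⟨t, ht, rfl⟩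
  obtain ⟨s, hs, c, hc, hcz, rfl⟩ := hfac t ht
  exact ⟨ι s, ⟨s, hs, rfl⟩, ι c, ⟨c, hc, rfl⟩, congrArg Subtype.val hcz, rfl⟩

end chart

section model

open Cfsg.Agent.MonsterX Cfsg.Agent.MonsterX.Model Cfsg.Agent.MonsterX.MainPack Cfsg.Agent.MonsterX.MainSimple
  Cfsg.Agent.MonsterX.MainBasic
open Cfsg.Agent.MonsterU.Assembly Cfsg.Agent.MonsterP

theorem evIn_model : EvIn 5 ↥InstData.M.G := by
  have hfin := MFive.Row.finite_model
  exact evIn_chart (KChart.chart KDone.lft MFive.Row.hc) BpSpor.M5.trNe (CpAutBFive.Closed.coFive hJ) hJ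
    CpAutBFive.Closed.hnEight BpSpor.M5.hasPair (CoFive.Ranks.wclassOf _) CoFive.Sylow.exists_four
    (BpSpor.M5.exists_k BpSpor.M5.hA) card_model

/-- **The Monster, `p = 5`.** -/
theorem m_five {X : Type*} [Group X] (h : Cfsg.Spor.IsoM X) : EvIn 5 X := by
  have hfin := MFive.Row.finite_model
  have hpf : Fact (Nat.Prime 5) := ⟨Nat.prime_five⟩
  obtain ⟨e⟩ := h
  obtain ⟨f⟩ := MonsterP.Equiv.equiv
  exact evIn_model.congr (f.symm.trans e.symm)

end model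

end Cfsg.Agent.H457.Odd.RowMFive
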