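import Mathlib
import Cfsg.Prelude.Def_Classification2
import Cfsg.Agent.H457.Odd.Crit
import Cfsg.Agent.H502.ThThree

/-!
# S3855, `p = 3`: the Thompson group (helper457)

An involution normalises a Sylow `3`-subgroup (helper502).
-/

set_option autoImplicit false

open Cfsg Subgroup

namespace Cfsg.Agent.H457.Odd.RowTh

open Cfsg.Agent.H467.OddNorm Cfsg.Agent.H457.Odd
open Cfsg.Agent.H502.ThKlein Cfsg.Agent.H502.ThFlag Cfsg.Agent.H502.ThThree Cfsg.Agent.Th.Gen248
  Cfsg.Agent.Th.Hom248 Cfsg.Agent.Th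

theorem evIn_th : EvIn 3 Cfsg.Spor.Th := by
  have h3 : Fact (Nat.Prime 3) := ⟨Nat.prime_three⟩
  obtain ⟨S, hS⟩ := card_three (k := 10) isPGroup_S3 dvd_card_S3 (by norm_num)
  have hu2 : el [.a] * el [.a] = 1 := el_eq a_sq (rho_mul (rho_gen _) (rho_gen _)) rho_one
  have hu1 : el [.a] ≠ 1 := glW_ne a_ne (rho_gen _) rho_one
  have ho : orderOf (el [.a]) = 2 := orderOf_eq_prime (by rw [pow_two, hu2]) hu1
  refine evIn_of_even S (h := el [.a]) (by rw [ho]; exact even_two) fun x hx => ?_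
  have hx' : x ∈ S3 := by rw [← hS]; exact hx
  have := norm_S3 ta hx'
  rw [← hS] at this
  exact this

theorem th_three {K : Type*} [Group K] (h : Spor.IsoTh K) : EvIn 3 K := by
  have h3 : Fact (Nat.Prime 3) := ⟨Nat.prime_three⟩
  obtain ⟨e⟩ := h
  exact evIn_th.congr e.symm

end Cfsg.Agent.H457.Odd.RowTh
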